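import Cfsg.Agent.Lib.Helper12.TC.Fi22P1x364.Main
import Cfsg.Agent.Lib.Helper12.Ord.Fi22P2

/-! the bound for the order from Fi22P1x364 (generated, helper12) -/

set_option autoImplicit false

namespace Cfsg.Agent.Lib.Helper12.TC.Fi22P1x364

open Cfsg.Agent.Lib.Helper12.TC Cfsg.Agent.Lib.Helper12.Ord

theorem S_eq : S = Cfsg.Agent.Lib.Helper12.Ord.Fi22P2.Sι := by
  ext x
  constructor
  · rintro (rfl | rfl | rfl | rfl | rfl | rfl | rfl)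
    · exact ⟨.b, rfl⟩
    · exact ⟨.c, rfl⟩
    · exact ⟨.d, rfl⟩
    · exact ⟨.e, rfl⟩
    · exact ⟨.f, rfl⟩
    · exact ⟨.h, rfl⟩
    · exact ⟨.i, rfl⟩
  · rintro ⟨y, rfl⟩
    cases y
    · exact Or.inl rfl
    · exact Or.inr (Or.inl rfl)
    · exact Or.inr (Or.inr (Or.inl rfl))
    · exact Or.inr (Or.inr (Or.inr (Or.inl rfl)))
    · exact Or.inr (Or.inr (Or.inr (Or.inr (Or.inl rfl))))
    · exact Or.inr (Or.inr (Or.inr (Or.inr (Or.inr (Or.inl rfl)))))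
    · exact Or.inr (Or.inr (Or.inr (Or.inr (Or.inr (Or.inr (rfl))))))

/-- the bound for the order -/
theorem card_le (hfin : Finite Cfsg.Agent.Lib.Helper12.Ord.Fi22P2.Grp) (m : ℕ) (hm : Nat.card Cfsg.Agent.Lib.Helper12.Ord.Fi22P2.Grp ≤ m) :
    Finite (PresentedGroup (Cfsg.Spor.coxRelators Cfsg.Agent.Lib.Helper12.Ord.Fi22P1.edges ∪
      {r | r ∈ Cfsg.Agent.Lib.Helper12.Ord.Fi22P1.extra})) ∧
    Nat.card (PresentedGroup (Cfsg.Spor.coxRelators Cfsg.Agent.Lib.Helper12.Ord.Fi22P1.edges ∪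
      {r | r ∈ Cfsg.Agent.Lib.Helper12.Ord.Fi22P1.extra})) ≤ cN * m := by
  obtain ⟨h1, h2⟩ := Cfsg.Agent.Lib.Helper12.Ord.Fi22P2.card_le hfin
  refine card_le_of_index _ cN m (by decide) ?_ h1 (h2.trans hm)
  rw [← S_eq]
  exact main.1

end Cfsg.Agent.Lib.Helper12.TC.Fi22P1x364
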