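import Cfsg.Agent.Lib.Helper12.TC.Fi22P1x364.Tab

/-! relator checks for Fi22P1x364, part 1 (generated, helper12) -/

set_option autoImplicit false
set_option maxRecDepth 100000

namespace Cfsg.Agent.Lib.Helper12.TC.Fi22P1x364

open Cfsg.Agent.Lib.Helper12.TC

theorem hperm0 : Fn.permOneK TT 0 cN = true := by decide +kernel

theorem hperm2 : Fn.permOneK TT 2 cN = true := by decide +kernel

theorem hperm4 : Fn.permOneK TT 4 cN = true := by decide +kernel

theorem hperm6 : Fn.permOneK TT 6 cN = true := by decide +kernel

theorem hm0 : Fn.marksK TT cN [([0, 1], 3)] = true := by decide +kernel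

theorem hm2 : Fn.marksK TT cN [([1, 2], 3)] = true := by decide +kernel

theorem hm4 : Fn.marksK TT cN [([1, 3], 2)] = true := by decide +kernel

theorem hm6 : Fn.marksK TT cN [([0, 4], 2)] = true := by decide +kernel

theorem hm8 : Fn.marksK TT cN [([2, 4], 2)] = true := by decide +kernel

theorem hm10 : Fn.marksK TT cN [([0, 5], 2)] = true := by decide +kernel

theorem hm12 : Fn.marksK TT cN [([2, 5], 2)] = true := by decide +kernel

theorem hm14 : Fn.marksK TT cN [([4, 5], 3)] = true := by decide +kernel

theorem hm16 : Fn.marksK TT cN [([1, 6], 2)] = true := by decide +kernel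

theorem hm18 : Fn.marksK TT cN [([3, 6], 2)] = true := by decide +kernel

theorem hm20 : Fn.marksK TT cN [([5, 6], 2)] = true := by decide +kernel

theorem hm22 : Fn.marksK TT cN [([1, 7], 2)] = true := by decide +kernel

theorem hm24 : Fn.marksK TT cN [([3, 7], 2)] = true := by decide +kernel

theorem hm26 : Fn.marksK TT cN [([5, 7], 2)] = true := by decide +kernel

theorem hm29 : Fn.marksK TT cN [([0, 1, 2, 3, 4, 5, 6], 9)] = true := by decide +kernel

end Cfsg.Agent.Lib.Helper12.TC.Fi22P1x364
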