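import Cfsg.Agent.Lib.Helper12.TC.Fi22P1x364.Tab

/-! relator checks for Fi22P1x364, part 0 (generated, helper12) -/

set_option autoImplicit false
set_option maxRecDepth 100000

namespace Cfsg.Agent.Lib.Helper12.TC.Fi22P1x364

open Cfsg.Agent.Lib.Helper12.TC

theorem hperm1 : Fn.permOneK TT 1 cN = true := by decide +kernel

theorem hperm3 : Fn.permOneK TT 3 cN = true := by decide +kernel

theorem hperm5 : Fn.permOneK TT 5 cN = true := by decide +kernel

theorem hperm7 : Fn.permOneK TT 7 cN = true := by decide +kernel

theorem hm1 : Fn.marksK TT cN [([0, 2], 2)] = true := by decide +kernel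

theorem hm3 : Fn.marksK TT cN [([0, 3], 2)] = true := by decide +kernel

theorem hm5 : Fn.marksK TT cN [([2, 3], 3)] = true := by decide +kernel

theorem hm7 : Fn.marksK TT cN [([1, 4], 2)] = true := by decide +kernel

theorem hm9 : Fn.marksK TT cN [([3, 4], 3)] = true := by decide +kernel

theorem hm11 : Fn.marksK TT cN [([1, 5], 2)] = true := by decide +kernel

theorem hm13 : Fn.marksK TT cN [([3, 5], 2)] = true := by decide +kernel

theorem hm15 : Fn.marksK TT cN [([0, 6], 2)] = true := by decide +kernel

theorem hm17 : Fn.marksK TT cN [([2, 6], 3)] = true := by decide +kernel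

theorem hm19 : Fn.marksK TT cN [([4, 6], 2)] = true := by decide +kernel

theorem hm21 : Fn.marksK TT cN [([0, 7], 2)] = true := by decide +kernel

theorem hm23 : Fn.marksK TT cN [([2, 7], 2)] = true := by decide +kernel

theorem hm25 : Fn.marksK TT cN [([4, 7], 2)] = true := by decide +kernel

theorem hm27 : Fn.marksK TT cN [([6, 7], 3)] = true := by decide +kernel

theorem hm28 : Fn.marksK TT cN [([2, 1, 0, 2, 3, 4, 2, 6, 7], 10)] = true := by decide +kernel

end Cfsg.Agent.Lib.Helper12.TC.Fi22P1x364
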